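import Mathlib
import Cfsg.Agent.Lib.helper17.T3.Defs

/-!
# Project T3A (sub-designer helper19) of the family T3 / S2110 (designer helper14, structure helper17) — definitions

**Aim.**  `Q : SysT C Γ` a Steinberg system of type `³D₄` generating `Γ`, `K` finite, `π : Γ →* G` a homomorphism onto
a group with a system `S = π ∘ Q` which is a *model* (`SysT.ModelOK`: uniqueness of the `B`-normal form of `1`, and the two negative
simple root elements are not in the Borel subgroup).  Then `π` is injective (`SysT.inj_of_model`, row K3 of the skeleton).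
The proof is the Bruhat decomposition `Γ = ⋃_w B n_w B` UPSTAIRS, from the relations of `SysT` alone.

**The twisted root system** (type `G₂`, Weyl group dihedral of order `12`).  Root `S_k` (short, `k : ZMod 6`) sits at the angle
`60° k`, root `L_k` (long) at `60° k + 30°`.  `-S_k = S_{k+3}`, `-L_k = L_{k+3}`.  Positive roots: `S_0 L_0 S_1 L_1 S_2 L_2`
(`pos j`: `j = 0, 1, 2`); simple roots `a = S_0`, `b = L_2`.
A Weyl group element is a pair `w = (ε, m) : W = Bool × ZMod 6`; it acts on the angles by `i ↦ ± i + 2 m` (`ε = true`: the sign `-`), i.e.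
`actS w j = ± j + m` on the short indices and `actL w j = j + m` resp. `- j + m - 1` on the long indices.
The reflection in `S_k` is `refS k = (true, 2 k + 3)`, the reflection in `L_k` is `refL k = (true, 2 k + 4)` (compare the fields `ws_*`, `wl_*` of `SysT`).
The simple reflections: `sref true = refS 0 = (true, 3)` (`a`), `sref false = refL 2 = (true, 2)` (`b`); `s : Bool` always denotes a simple root
(`true = a`, `false = b`).  Words in the simple reflections are `List Bool`; `alt s n` is the alternating word of length `n` starting with `s`;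
the `13` words `alt s n`, `n ≤ 6`, represent all `12` elements of the Weyl group (`alt true 6` and `alt false 6` both represent the longest element).
-/

set_option autoImplicit false

namespace Cfsg.Agent.Lib.Helper19.T3A

open Cfsg.Agent.Lib.helper15.St2 Cfsg.Agent.Lib.helper7.Ce Cfsg.Agent.Lib.helper17.T3

/-! ## the dihedral Weyl group -/

/-- the Weyl group elements `(ε, m)`: `i ↦ ± i + 2 m` on the angles -/
abbrev W := Bool × ZMod 6

/-- the identity -/
def W.one : W := (false, 0)

/-- the product (`w` after `w'`) -/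
def W.mul (w w' : W) : W := (xor w.1 w'.1, (if w.1 then -w'.2 else w'.2) + w.2)

/-- the inverse -/
def W.inv (w : W) : W := (w.1, if w.1 then w.2 else -w.2)

/-- the action on the short indices -/
def actS (w : W) (j : ZMod 6) : ZMod 6 := (if w.1 then -j else j) + w.2

/-- the action on the long indices -/
def actL (w : W) (j : ZMod 6) : ZMod 6 := if w.1 then -j + w.2 - 1 else j + w.2

/-- the reflection in the short root `S_k` -/
def refS (k : ZMod 6) : W := (true, 2 * k + 3)

/-- the reflection in the long root `L_k` -/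
def refL (k : ZMod 6) : W := (true, 2 * k + 4)

/-- the positive indices `0, 1, 2` (for both lengths) -/
def pos (j : ZMod 6) : Prop := j = 0 ∨ j = 1 ∨ j = 2

instance : DecidablePred pos := fun j => by unfold pos; infer_instance

/-- the simple reflections: `true ↦ a = S_0`, `false ↦ b = L_2` -/
def sref (s : Bool) : W := if s then refS 0 else refL 2

/-- the Weyl group element of a word -/
def wdW : List Bool → W
  | [] => W.one
  | s :: w => W.mul (sref s) (wdW w)

/-- the alternating word of length `n` starting with `s` -/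
def alt : Bool → ℕ → List Bool
  | _, 0 => []
  | s, n + 1 => s :: alt (!s) n

/-- the root `w⁻¹ (α_s)` is positive (`ℓ (s w) > ℓ (w)`) -/
def simplePos (s : Bool) (w : W) : Prop := if s then pos (actS (W.inv w) 0) else pos (actL (W.inv w) 2)

instance (s : Bool) (w : W) : Decidable (simplePos s w) := by unfold simplePos; infer_instance

/-- the short roots of `U_s` (all positive roots except the simple root `s`) -/
def usS (s : Bool) (j : ZMod 6) : Prop := pos j ∧ (s = true → j ≠ 0)

/-- the long roots of `U_s` -/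
def usL (s : Bool) (j : ZMod 6) : Prop := pos j ∧ (s = false → j ≠ 2)

instance (s : Bool) : DecidablePred (usS s) := fun j => by unfold usS; infer_instance
instance (s : Bool) : DecidablePred (usL s) := fun j => by unfold usL; infer_instance

/-! ## subgroups and elements attached to a system -/

variable {F K : Type*} [Field F] [Field K] [Algebra F K] {C : Cub F K}

/-- `F` is finite as soon as `K` is -/
theorem finite_F (F K : Type*) [Field F] [Field K] [Algebra F K] [Finite K] : Finite F :=
  Finite.of_injective (algebraMap F K) (algebraMap F K).injective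

end Cfsg.Agent.Lib.Helper19.T3A

namespace Cfsg.Agent.Lib.helper17.T3.SysT

open Cfsg.Agent.Lib.helper15.St2 Cfsg.Agent.Lib.helper7.Ce Cfsg.Agent.Lib.Helper19.T3A

variable {F K : Type*} [Field F] [Field K] [Algebra F K] {C : Cub F K} {Γ : Type*} [Group Γ] (Q : SysT C Γ)

/-- the image of a system under a homomorphism -/
def map {G : Type*} [Group G] (π : Γ →* G) : SysT C G where
  xs k t := π (Q.xs k t)
  xl k c := π (Q.xl k c)
  adds k s t := by rw [← map_mul, Q.adds]
  addl k c d := by rw [← map_mul, Q.addl]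
  c_sl0 k s c := by rw [← map_mul, ← map_mul, Q.c_sl0]
  c_sl1 k s c := by rw [← map_mul, ← map_mul, Q.c_sl1]
  c_ls1 k c s := by rw [← map_mul, ← map_mul, Q.c_ls1]
  c_ll1 k c d := by rw [← map_mul, ← map_mul, Q.c_ll1]
  c_ls2 k c s := by rw [← map_mul, ← map_mul, Q.c_ls2]
  ss1 k s t := by rw [← map_cm, Q.ss1]
  ss2 k s t := by rw [← map_cm, Q.ss2, map_mul, map_mul]
  sl k s c := by rw [← map_cm, Q.sl, map_mul, map_mul, map_mul]
  ll k c d := by rw [← map_cm, Q.ll]
  ls k c t := by rw [← map_cm, Q.ls, map_mul, map_mul, map_mul]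
  ws_s0 k t u ht := by rw [← map_mul, ← map_mul, ← map_cj, Q.ws_s0 k t u ht]
  ws_s1 k t u ht := by rw [← map_mul, ← map_mul, ← map_cj, Q.ws_s1 k t u ht]
  ws_s2 k t u ht := by rw [← map_mul, ← map_mul, ← map_cj, Q.ws_s2 k t u ht]
  ws_s3 k t u ht := by rw [← map_mul, ← map_mul, ← map_cj, Q.ws_s3 k t u ht]
  ws_s4 k t u ht := by rw [← map_mul, ← map_mul, ← map_cj, Q.ws_s4 k t u ht]
  ws_s5 k t u ht := by rw [← map_mul, ← map_mul, ← map_cj, Q.ws_s5 k t u ht]
  ws_l0 k t c ht := by rw [← map_mul, ← map_mul, ← map_cj, Q.ws_l0 k t c ht]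
  ws_l1 k t c ht := by rw [← map_mul, ← map_mul, ← map_cj, Q.ws_l1 k t c ht]
  ws_l2 k t c ht := by rw [← map_mul, ← map_mul, ← map_cj, Q.ws_l2 k t c ht]
  ws_l3 k t c ht := by rw [← map_mul, ← map_mul, ← map_cj, Q.ws_l3 k t c ht]
  ws_l4 k t c ht := by rw [← map_mul, ← map_mul, ← map_cj, Q.ws_l4 k t c ht]
  ws_l5 k t c ht := by rw [← map_mul, ← map_mul, ← map_cj, Q.ws_l5 k t c ht]
  wl_s0 k c u hc := by rw [← map_mul, ← map_mul, ← map_cj, Q.wl_s0 k c u hc]
  wl_s1 k c u hc := by rw [← map_mul, ← map_mul, ← map_cj, Q.wl_s1 k c u hc]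
  wl_s2 k c u hc := by rw [← map_mul, ← map_mul, ← map_cj, Q.wl_s2 k c u hc]
  wl_s3 k c u hc := by rw [← map_mul, ← map_mul, ← map_cj, Q.wl_s3 k c u hc]
  wl_s4 k c u hc := by rw [← map_mul, ← map_mul, ← map_cj, Q.wl_s4 k c u hc]
  wl_s5 k c u hc := by rw [← map_mul, ← map_mul, ← map_cj, Q.wl_s5 k c u hc]
  wl_l0 k c d hc := by rw [← map_mul, ← map_mul, ← map_cj, Q.wl_l0 k c d hc]
  wl_l1 k c d hc := by rw [← map_mul, ← map_mul, ← map_cj, Q.wl_l1 k c d hc]
  wl_l2 k c d hc := by rw [← map_mul, ← map_mul, ← map_cj, Q.wl_l2 k c d hc]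
  wl_l3 k c d hc := by rw [← map_mul, ← map_mul, ← map_cj, Q.wl_l3 k c d hc]
  wl_l4 k c d hc := by rw [← map_mul, ← map_mul, ← map_cj, Q.wl_l4 k c d hc]
  wl_l5 k c d hc := by rw [← map_mul, ← map_mul, ← map_cj, Q.wl_l5 k c d hc]

theorem map_xs {G : Type*} [Group G] (π : Γ →* G) (k : ZMod 6) (t : K) : (Q.map π).xs k t = π (Q.xs k t) := rfl

theorem map_xl {G : Type*} [Group G] (π : Γ →* G) (k : ZMod 6) (c : F) : (Q.map π).xl k c = π (Q.xl k c) := rfl

/-- the representative of a simple reflection: `n_a = ws 0 1`, `n_b = wl 2 1` -/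
def nS (s : Bool) : Γ := if s then Q.ws 0 1 else Q.wl 2 1

/-- the representative of a word -/
def nw (w : List Bool) : Γ := (w.map Q.nS).prod

/-- `g` is monomial over `w`: it maps the root group of `r` onto the root group of `w r`, linearly, with inverse scalars on opposite roots -/
def IsMon (g : Γ) (w : W) : Prop :=
  ∃ (a : ZMod 6 → K) (b : ZMod 6 → F), (∀ j, a j ≠ 0) ∧ (∀ j, b j ≠ 0) ∧ (∀ j, a (j + 3) = (a j)⁻¹) ∧ (∀ j, b (j + 3) = (b j)⁻¹) ∧
    (∀ j u, cj g (Q.xs j u) = Q.xs (actS w j) (a j * u)) ∧ (∀ j c, cj g (Q.xl j c) = Q.xl (actL w j) (b j * c))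

/-- the subgroup generated by the root elements of the short roots in `Ps` and the long roots in `Pl` -/
def UU (Ps Pl : ZMod 6 → Prop) : Subgroup Γ :=
  Subgroup.closure ({g | ∃ k t, Ps k ∧ g = Q.xs k t} ∪ {g | ∃ k c, Pl k ∧ g = Q.xl k c})

/-- the positive unipotent subgroup -/
def U : Subgroup Γ := Q.UU pos pos

/-- the positive roots without the simple root `s` -/
def Us (s : Bool) : Subgroup Γ := Q.UU (usS s) (usL s)

/-- the root group of the simple root `s` -/
def Xs (s : Bool) : Subgroup Γ := Q.UU (fun j => s = true ∧ j = 0) (fun j => s = false ∧ j = 2)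

/-- the root group of the negative of the simple root `s` -/
def Ys (s : Bool) : Subgroup Γ := Q.UU (fun j => s = true ∧ j = 3) (fun j => s = false ∧ j = 5)

/-- the torus `hs 0 (Kˣ) * hl 2 (Fˣ)` -/
def Tor : Subgroup Γ := Subgroup.closure {g | ∃ (t : K) (c : F), t ≠ 0 ∧ c ≠ 0 ∧ g = Q.hs 0 t * Q.hl 2 c}

/-- the Borel subgroup -/
def Bor : Subgroup Γ := Q.Tor ⊔ Q.U

/-- the double coset `B n_w B` -/
def Cell (w : List Bool) : Set Γ := {g | ∃ b ∈ Q.Bor, ∃ b' ∈ Q.Bor, g = b * Q.nw w * b'}

/-- the union of the thirteen cells -/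
def InM (g : Γ) : Prop := ∃ (s : Bool) (n : ℕ), n ≤ 6 ∧ g ∈ Q.Cell (alt s n)

/-- the product of six positive root elements -/
def uprod (s0 : K) (l0 : F) (s1 : K) (l1 : F) (s2 : K) (l2 : F) : Γ :=
  Q.xs 0 s0 * Q.xl 0 l0 * Q.xs 1 s1 * Q.xl 1 l1 * Q.xs 2 s2 * Q.xl 2 l2

/-- **The interface with project T3M**: what the system `S` of `³D₄(q) = twistedD4 K q` has to satisfy.
`tu`: the `B`-normal form of `1` is trivial; `bn_a`, `bn_b`: the root elements of `-a = S_3`, `-b = L_5` are not in the Borel subgroup. -/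
structure ModelOK : Prop where
  tu : ∀ (t : K) (c : F) (s0 : K) (l0 : F) (s1 : K) (l1 : F) (s2 : K) (l2 : F), t ≠ 0 → c ≠ 0 →
    Q.hs 0 t * Q.hl 2 c * Q.uprod s0 l0 s1 l1 s2 l2 = 1 → t = 1 ∧ c = 1 ∧ s0 = 0 ∧ l0 = 0 ∧ s1 = 0 ∧ l1 = 0 ∧ s2 = 0 ∧ l2 = 0
  bn_a : Q.xs 3 1 ∉ Q.Bor
  bn_b : Q.xl 5 1 ∉ Q.Bor

end Cfsg.Agent.Lib.helper17.T3.SysT
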