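import Mathlib
import Cfsg.Agent.Lib.Helper19.T3A.Defs

/-!
# Project T3A: the combinatorics of the dihedral Weyl group of order `12` (all by `decide`; LANDED, cite freely).
-/

set_option autoImplicit false

namespace Cfsg.Agent.Lib.Helper19.T3A

theorem actS_mul : ∀ (w w' : W) (j : ZMod 6), actS (W.mul w w') j = actS w (actS w' j) := by decide

theorem actL_mul : ∀ (w w' : W) (j : ZMod 6), actL (W.mul w w') j = actL w (actL w' j) := by decide

theorem actS_inv : ∀ (w : W) (j : ZMod 6), actS w (actS (W.inv w) j) = j ∧ actS (W.inv w) (actS w j) = j := by decide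

theorem actL_inv : ∀ (w : W) (j : ZMod 6), actL w (actL (W.inv w) j) = j ∧ actL (W.inv w) (actL w j) = j := by decide

theorem actS_one : ∀ j : ZMod 6, actS W.one j = j := by decide

theorem actL_one : ∀ j : ZMod 6, actL W.one j = j := by decide

/-- the action commutes with `r ↦ -r` -/
theorem act_add_three : ∀ (w : W) (j : ZMod 6), actS w (j + 3) = actS w j + 3 ∧ actL w (j + 3) = actL w j + 3 := by decide

theorem add_three_three : ∀ j : ZMod 6, j + 3 + 3 = j := by decide

theorem W_mul_inv : ∀ w : W, W.mul w (W.inv w) = W.one ∧ W.mul (W.inv w) w = W.one := by decide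

theorem W_mul_one : ∀ w : W, W.mul w W.one = w ∧ W.mul W.one w = w := by decide

theorem W_mul_assoc : ∀ w w' w'' : W, W.mul (W.mul w w') w'' = W.mul w (W.mul w' w'') := by decide

/-- the reflections act as in the fields `ws_*`, `wl_*` of `SysT` -/
theorem refS_act : ∀ k : ZMod 6, actS (refS k) k = k + 3 ∧ actS (refS k) (k + 1) = k + 2 ∧ actS (refS k) (k + 2) = k + 1 ∧
    actS (refS k) (k + 3) = k ∧ actS (refS k) (k + 4) = k + 5 ∧ actS (refS k) (k + 5) = k + 4 ∧
    actL (refS k) k = k + 2 ∧ actL (refS k) (k + 1) = k + 1 ∧ actL (refS k) (k + 2) = k ∧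
    actL (refS k) (k + 3) = k + 5 ∧ actL (refS k) (k + 4) = k + 4 ∧ actL (refS k) (k + 5) = k + 3 := by decide

theorem refL_act : ∀ k : ZMod 6, actS (refL k) k = k + 4 ∧ actS (refL k) (k + 1) = k + 3 ∧ actS (refL k) (k + 2) = k + 2 ∧
    actS (refL k) (k + 3) = k + 1 ∧ actS (refL k) (k + 4) = k ∧ actS (refL k) (k + 5) = k + 5 ∧
    actL (refL k) k = k + 3 ∧ actL (refL k) (k + 1) = k + 2 ∧ actL (refL k) (k + 2) = k + 1 ∧
    actL (refL k) (k + 3) = k ∧ actL (refL k) (k + 4) = k + 5 ∧ actL (refL k) (k + 5) = k + 4 := by decide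

/-- every index is `k + i` with `i = 0, …, 5` -/
theorem exists_add : ∀ k j : ZMod 6, j = k ∨ j = k + 1 ∨ j = k + 2 ∨ j = k + 3 ∨ j = k + 4 ∨ j = k + 5 := by decide

/-- `ℓ (s w) > ℓ (w)` for the alternating words `w` of length `≤ 5` starting with the other simple reflection -/
theorem simplePos_alt : ∀ (s : Bool) (n : ℕ), n ≤ 5 → simplePos s (wdW (alt (!s) n)) := by decide

/-- the root `b = L_2` is fixed by `a b a b a` -/
theorem braid_fix : actL (wdW (alt true 5)) 2 = 2 := by decide

/-- a nontrivial Weyl group element maps some positive root onto the negative of a simple root -/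
theorem neg_simple : ∀ (s : Bool) (n : ℕ), 1 ≤ n → n ≤ 6 →
    (∃ j, pos j ∧ actS (wdW (alt s n)) j = 3) ∨ (∃ j, pos j ∧ actL (wdW (alt s n)) j = 5) := by decide

/-- every short root is conjugate to `a = S_0`, every long root to `b = L_2`, under the rotations `(a b)^n` -/
theorem rot_S : ∀ k : ZMod 6, ∃ n, n ≤ 5 ∧ actS (wdW (alt true (2 * n))) 0 = k := by decide

theorem rot_L : ∀ k : ZMod 6, ∃ n, n ≤ 5 ∧ actL (wdW (alt true (2 * n))) 2 = k := by decide

/-- the simple reflection `s` permutes the positive roots other than `s` and maps `s` to `-s` -/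
theorem sref_us : ∀ (s : Bool) (j : ZMod 6), (usS s j → usS s (actS (sref s) j)) ∧ (usL s j → usL s (actL (sref s) j)) := by decide

theorem sref_simple : actS (sref true) 0 = 3 ∧ actL (sref false) 2 = 5 := by decide

theorem refS_mul_inv : ∀ k : ZMod 6, W.mul (refS k) (W.inv (refS k)) = W.one ∧ W.mul (refL k) (W.inv (refL k)) = W.one := by decide

theorem alt_succ (s : Bool) (n : ℕ) : alt s (n + 1) = s :: alt (!s) n := rfl

theorem alt_zero (s : Bool) : alt s 0 = [] := rfl

/-- `simplePos` unfolded -/
theorem simplePos_true (w : W) : simplePos true w ↔ pos (actS (W.inv w) 0) := by simp [simplePos]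

theorem simplePos_false (w : W) : simplePos false w ↔ pos (actL (W.inv w) 2) := by simp [simplePos]

/-- the roots of `U_s` are positive; the positive roots are those of `U_s` and `s` -/
theorem usS_pos : ∀ (s : Bool) (j : ZMod 6), usS s j → pos j := fun _ _ h => h.1

theorem usL_pos : ∀ (s : Bool) (j : ZMod 6), usL s j → pos j := fun _ _ h => h.1

theorem pos_cases_S : ∀ (s : Bool) (j : ZMod 6), pos j → usS s j ∨ (s = true ∧ j = 0) := by decide

theorem pos_cases_L : ∀ (s : Bool) (j : ZMod 6), pos j → usL s j ∨ (s = false ∧ j = 2) := by decide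

end Cfsg.Agent.Lib.Helper19.T3A
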